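import Groth.Agent.L16.TwSep.Basic
import Groth.Agent.L27.HenselClosed.Nhd
import Groth.Agent.L05.Hensel.Product
import Mathlib.AlgebraicGeometry.ZariskisMainTheorem
import Mathlib.AlgebraicGeometry.Morphisms.Proper
import Mathlib.RingTheory.Unramified.LocalRing
import Mathlib.RingTheory.Flat.Rank

/-!
Twisted constant schemes over a henselian local base split into local schemes.
-/

set_option autoImplicit false
set_option linter.style.haveILetI false
universe u

open CategoryTheory CategoryTheory.Limits AlgebraicGeometry Opposite IsLocalRing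

namespace Groth.L15.TwHens

variable {R : Type u} [CommRing R] [HenselianLocalRing R] {X : Scheme.{u}}
  {f : X ⟶ Spec (CommRingCat.of R)}

theorem locallyQuasiFinite_of_etale {X Y : Scheme.{u}} (f : X ⟶ Y) [Etale f] : LocallyQuasiFinite f := by
  rw [HasRingHomProperty.iff_appLE (P := @LocallyQuasiFinite)]
  intro U V e
  have h : (f.appLE U.1 V.1 e).hom.Etale := HasRingHomProperty.appLE (P := @AlgebraicGeometry.Etale) f inferInstance U V e
  letI := (f.appLE U.1 V.1 e).hom.toAlgebra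
  haveI : Algebra.Etale Γ(Y, U.1) Γ(X, V.1) := h
  exact (inferInstance : Algebra.QuasiFinite Γ(Y, U.1) Γ(X, V.1))

/-- Every point lies in a clopen piece finite over the base. -/
theorem exists_finite_open {X : Over (Spec (CommRingCat.of R))}
    (hX : TwC.IsTwConst TwC.Topology.etale X) (y : X.left) :
    ∃ Z : X.left.Opens, y ∈ Z ∧ IsFinite (Z.ι ≫ X.hom) := by
  haveI : IsSeparated X.hom := Groth.L16.TwSep.isSeparated hX
  haveI : Etale X.hom := Groth.L25.TwConst.etale_of_fppf (Groth.L25.TwConst.fppf_of_etale hX)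
  obtain ⟨S', h, hh, ⟨x₀, hx₀⟩, I, ⟨e⟩⟩ := hX (closedPoint R)
  obtain ⟨V, a, hVf, hVs⟩ := Groth.L27.HenselClosed.exists_finite_etale_nhd R
    (@Scheme.Etale.mk _ S' h hh) x₀ hx₀
  obtain ⟨C, hC⟩ := Groth.L25.TwConst.exists_split_of_iso h e
  let q : V.left ⟶ Spec (CommRingCat.of R) := V.hom
  haveI : IsFinite q := hVf
  haveI : Etale q := V.prop
  haveI : Surjective q := hVs
  let π := pullback.fst X.hom q
  let p := pullback.snd X.hom q
  let al : V.left ⟶ S' := a.left
  have ha : al ≫ h = q := MorphismProperty.Over.w a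
  have sq0 : IsPullback (pullback.fst X.hom h) (pullback.snd X.hom h) X.hom h := .of_hasPullback _ _
  let k := sq0.lift π (p ≫ al) (by rw [Category.assoc, ha]; exact pullback.condition)
  have big : IsPullback π p X.hom (al ≫ h) := by rw [ha]; exact .of_hasPullback _ _
  have sq : IsPullback k p (pullback.snd X.hom h) al :=
    IsPullback.of_right (by rw [sq0.lift_fst]; exact big) (sq0.lift_snd _ _ _) sq0
  have hC' := hC.baseChange sq
  obtain ⟨y', hy'⟩ := π.surjective y
  obtain ⟨i, hi⟩ := hC'.cover y'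
  let Ci := k ⁻¹ᵁ C i
  have hopen : IsOpen (π '' (Ci : Set _)) := π.isOpenMap _ Ci.2
  let Z : X.left.Opens := ⟨_, hopen⟩
  refine ⟨Z, ⟨y', hi, hy'⟩, ?_⟩
  let j : (Ci : Scheme.{u}) ⟶ Z := IsOpenImmersion.lift Z.ι (Ci.ι ≫ π) (by
    rintro _ ⟨z, rfl⟩
    exact Z.range_ι.symm ▸ ⟨Ci.ι z, z.2, rfl⟩)
  have hj : j ≫ Z.ι = Ci.ι ≫ π := IsOpenImmersion.lift_fac _ _ _
  haveI : Surjective j := ⟨fun z => by
    obtain ⟨w, hw, hwz⟩ := z.2
    refine ⟨⟨w, hw⟩, Z.ι.isOpenEmbedding.injective ?_⟩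
    exact (congrArg (fun g : (Ci : Scheme.{u}) ⟶ X.left => g ⟨w, hw⟩) hj).trans hwz⟩
  haveI := hC'.iso i
  haveI : IsFinite ((Ci.ι ≫ p) ≫ q) := inferInstance
  have he : j ≫ Z.ι ≫ X.hom = (Ci.ι ≫ p) ≫ q := by
    rw [← Category.assoc, hj, Category.assoc, pullback.condition, Category.assoc]
  haveI : UniversallyClosed (j ≫ Z.ι ≫ X.hom) := by rw [he]; infer_instance
  haveI : UniversallyClosed (Z.ι ≫ X.hom) := UniversallyClosed.of_comp_surjective j _
  haveI : IsProper (Z.ι ≫ X.hom) := {}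
  haveI := locallyQuasiFinite_of_etale (Z.ι ≫ X.hom)
  exact IsFinite.of_isProper_of_locallyQuasiFinite _

theorem primeIdealOf_comap {U : X.Opens} (hU : IsAffineOpen U) (φ : CommRingCat.of R ⟶ Γ(X, U))
    (hφ : Spec.map φ = hU.fromSpec ≫ f) {x : X} (hx : f x = closedPoint R) (hxU : x ∈ U) :
    (hU.primeIdealOf ⟨x, hxU⟩).asIdeal.comap φ.hom = maximalIdeal R := by
  have h1 : Spec.map φ (hU.primeIdealOf ⟨x, hxU⟩) = closedPoint R := by
    rw [hφ]
    exact (congrArg f (hU.fromSpec_primeIdealOf ⟨x, hxU⟩)).trans hx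
  exact congrArg PrimeSpectrum.asIdeal h1

/-- The local scheme at a closed point of the closed fibre. -/
theorem localPiece [IsSeparated f] [Etale f] {Z : X.Opens} [IsFinite (Z.ι ≫ f)] {x : X} (hxZ : x ∈ Z)
    (hx : f x = closedPoint R) :
    IsOpenImmersion (X.fromSpecStalk x) ∧ IsClosedImmersion (X.fromSpecStalk x) ∧
      IsFinite (X.fromSpecStalk x ≫ f) ∧ Etale (X.fromSpecStalk x ≫ f) ∧
      Surjective (X.fromSpecStalk x ≫ f) := by
  have hZ : IsAffineOpen Z := isAffine_of_isAffineHom (Z.ι ≫ f)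
  obtain ⟨φ, hφ⟩ : ∃ φ : CommRingCat.of R ⟶ Γ(X, Z), Spec.map φ = hZ.fromSpec ≫ f := Spec.map_surjective _
  have hfin : φ.hom.Finite := by
    have : IsFinite (hZ.isoSpec.inv ≫ Z.ι ≫ f) := inferInstance
    rwa [← Category.assoc, hZ.isoSpec_inv_ι, ← hφ, IsFinite.SpecMap_iff] at this
  letI := φ.hom.toAlgebra
  haveI : Module.Finite R Γ(X, Z) := hfin
  obtain ⟨ι, _, e, he, hloc⟩ := Groth.L05.exists_idem_local_of_finite (A := R) Γ(X, Z)
  set q := (hZ.primeIdealOf ⟨x, hxZ⟩).asIdeal with hqdef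
  obtain ⟨i, hi⟩ : ∃ i, e i ∉ q := by
    by_contra! h
    exact (hZ.primeIdealOf ⟨x, hxZ⟩).isPrime.ne_top
      ((Ideal.eq_top_iff_one _).2 (he.complete ▸ q.sum_mem fun i _ => h i))
  let W : X.Opens := X.basicOpen (e i)
  have hW : IsAffineOpen W := hZ.basicOpen (e i)
  have hxW : x ∈ W := by
    have h1 : hZ.primeIdealOf ⟨x, hxZ⟩ ∈ hZ.fromSpec ⁻¹ᵁ X.basicOpen (e i) := by
      rw [hZ.fromSpec_preimage_basicOpen]
      exact hi
    have h2 : hZ.fromSpec (hZ.primeIdealOf ⟨x, hxZ⟩) ∈ X.basicOpen (e i) := h1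
    rwa [hZ.fromSpec_primeIdealOf] at h2
  let r : Γ(X, Z) ⟶ Γ(X, W) := X.presheaf.map (homOfLE (X.basicOpen_le (e i))).op
  letI := r.hom.toAlgebra
  haveI : IsLocalization.Away (e i) Γ(X, W) := hZ.isLocalization_basicOpen (e i)
  let B' := Γ(X, Z) ⧸ Ideal.span ({1 - e i} : Set Γ(X, Z))
  haveI : IsLocalization.Away (e i) B' :=
    IsLocalization.away_of_isIdempotentElem (he.idem i) Ideal.mk_ker Ideal.Quotient.mk_surjective
  let ε : B' ≃ₐ[Γ(X, Z)] Γ(X, W) := IsLocalization.algEquiv (Submonoid.powers (e i)) _ _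
  haveI : IsLocalRing Γ(X, W) := haveI := hloc i; ε.toRingEquiv.isLocalRing
  have hr : Function.Surjective r.hom := fun b => by
    obtain ⟨a, ha⟩ := Ideal.Quotient.mk_surjective (ε.symm b)
    refine ⟨a, (ε.commutes a).symm.trans ?_⟩
    rw [Ideal.Quotient.algebraMap_eq, ha, ε.apply_symm_apply]
  have hφW : Spec.map (φ ≫ r) = hW.fromSpec ≫ f := by
    rw [Spec.map_comp, hφ, ← Category.assoc, hZ.map_fromSpec hW]
  have hfinW : (φ ≫ r).hom.Finite := (RingHom.Finite.of_surjective _ hr).comp hfin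
  have hmax : (hW.primeIdealOf ⟨x, hxW⟩).asIdeal.IsMaximal :=
    Ideal.isMaximal_of_isIntegral_of_isMaximal_comap' (φ ≫ r).hom hfinW.to_isIntegral _
      (by rw [primeIdealOf_comap hW _ hφW hx hxW]; exact maximalIdeal.isMaximal R)
  letI := TopCat.Presheaf.algebra_section_stalk X.presheaf (⟨x, hxW⟩ : W)
  haveI := hW.isLocalization_stalk ⟨x, hxW⟩
  have hu : ((hW.primeIdealOf ⟨x, hxW⟩).asIdeal.primeCompl : Set Γ(X, W)) ⊆ {b | IsUnit b} := by
    intro b hb
    exact IsLocalRing.notMem_maximalIdeal.1 fun hm => hb ((IsLocalRing.eq_maximalIdeal hmax).ge hm)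
  let δ := IsLocalization.atUnits Γ(X, W) (hW.primeIdealOf ⟨x, hxW⟩).asIdeal.primeCompl
    (S := X.presheaf.stalk x) hu
  haveI : IsIso (X.presheaf.germ W x hxW) := δ.toRingEquiv.toCommRingCatIso.isIso_hom
  have hst : X.fromSpecStalk x = Spec.map (X.presheaf.germ W x hxW) ≫ hW.fromSpec :=
    (hW.fromSpecStalk_eq_fromSpecStalk hxW).symm
  haveI : IsOpenImmersion (X.fromSpecStalk x) := by rw [hst]; infer_instance
  haveI : IsFinite (X.fromSpecStalk x ≫ f) := by
    rw [hst, Category.assoc, ← hφW]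
    haveI : IsFinite (Spec.map (φ ≫ r)) := (IsFinite.SpecMap_iff _).2 hfinW
    infer_instance
  haveI : UniversallyClosed (X.fromSpecStalk x) := UniversallyClosed.of_comp_of_isSeparated _ f
  haveI het : Etale (X.fromSpecStalk x ≫ f) := inferInstance
  refine ⟨inferInstance, .of_isPreimmersion _ (X.fromSpecStalk x).isClosedMap.isClosed_range, inferInstance,
    het, ⟨fun s => ?_⟩⟩
  have h0 : closedPoint R ∈ Set.range (X.fromSpecStalk x ≫ f) :=
    ⟨closedPoint _, (congrArg f Scheme.fromSpecStalk_closedPoint).trans hx⟩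
  exact (specializes_closedPoint s).mem_open (X.fromSpecStalk x ≫ f).isOpenMap.isOpen_range h0

theorem exists_unique_closedPoint [IsSeparated f] [Etale f]
    (hcov : ∀ y : X, ∃ Z : X.Opens, y ∈ Z ∧ IsFinite (Z.ι ≫ f)) (y : X) :
    ∃! x : X, f x = closedPoint R ∧ y ∈ Set.range (X.fromSpecStalk x) := by
  obtain ⟨Z, hyZ, hZ⟩ := hcov y
  obtain ⟨z, hz, hfz⟩ := (Z.ι ≫ f).isClosedMap.specializingMap (a := (⟨y, hyZ⟩ : Z))
    (show (Z.ι ≫ f) ⟨y, hyZ⟩ ⤳ closedPoint R from specializes_closedPoint _)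
  have hyx : y ⤳ Z.ι z := (hz.map Z.ι.continuous :)
  have hx : f (Z.ι z) = closedPoint R := hfz
  refine ⟨Z.ι z, ⟨hx, by rw [Scheme.range_fromSpecStalk]; exact hyx⟩, fun x' hx' => ?_⟩
  obtain ⟨hx', hyx'⟩ := hx'
  obtain ⟨Z', hxZ', hZ'⟩ := hcov x'
  obtain ⟨-, hcl, hfin, -, -⟩ := localPiece hxZ' hx'
  obtain ⟨w, hw⟩ : Z.ι z ∈ Set.range (X.fromSpecStalk x') :=
    hyx.mem_closed (X.fromSpecStalk x').isClosedMap.isClosed_range hyx'
  have hwc : w = closedPoint _ := by
    obtain ⟨ψ, hψ⟩ := Spec.map_surjective (X.fromSpecStalk x' ≫ f)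
    have hi : ψ.hom.IsIntegral := RingHom.Finite.to_isIntegral (by
      rwa [← IsFinite.SpecMap_iff, hψ])
    have h1 : Spec.map ψ w = closedPoint R := by
      rw [hψ]
      exact (congrArg f hw).trans hx
    have h2 : (w.asIdeal).comap ψ.hom = maximalIdeal R := congrArg PrimeSpectrum.asIdeal h1
    haveI : w.asIdeal.IsPrime := w.2
    exact PrimeSpectrum.ext (IsLocalRing.eq_maximalIdeal (Ideal.isMaximal_of_isIntegral_of_isMaximal_comap'
      ψ.hom hi _ (by rw [h2]; exact maximalIdeal.isMaximal R)))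
  rw [← hw, hwc, Scheme.fromSpecStalk_closedPoint]

/-- At a rational point of the closed fibre the local scheme is the base. -/
theorem isIso_of_point [IsSeparated f] [Etale f] (x : X) [IsOpenImmersion (X.fromSpecStalk x)]
    [IsFinite (X.fromSpecStalk x ≫ f)] (τ : Spec (CommRingCat.of (ResidueField R)) ⟶ X)
    (hτ : τ ≫ f = Spec.map (CommRingCat.ofHom (residue R))) (hτx : τ (closedPoint _) = x) :
    IsIso (X.fromSpecStalk x ≫ f) ∧ ∀ σ σ' : Spec (CommRingCat.of R) ⟶ X, σ ≫ f = 𝟙 _ → σ' ≫ f = 𝟙 _ →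
      σ (closedPoint R) = x → σ' (closedPoint R) = x → σ = σ' := by
  let L := X.presheaf.stalk x
  obtain ⟨ψ, hψ⟩ := Spec.map_surjective (X.fromSpecStalk x ≫ f)
  have hfin : ψ.hom.Finite := by rwa [← IsFinite.SpecMap_iff, hψ]
  have het : ψ.hom.Etale := (HasRingHomProperty.Spec_iff (P := @AlgebraicGeometry.Etale)).1 (by
    rw [hψ]; infer_instance)
  letI := ψ.hom.toAlgebra
  haveI : Module.Finite R L := hfin
  haveI : Algebra.Etale R L := het
  haveI hlocal : IsLocalHom (algebraMap R L) := by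
    refine ((IsLocalRing.local_hom_TFAE (algebraMap R L)).out 0 4).2 ?_
    have h1 : Spec.map ψ (closedPoint L) = closedPoint R := by
      rw [hψ]
      refine (congrArg f (Scheme.fromSpecStalk_closedPoint.trans hτx.symm)).trans ?_
      exact (congrArg (fun g : Spec (CommRingCat.of (ResidueField R)) ⟶ Spec (CommRingCat.of R) => g (closedPoint _))
        hτ).trans (IsLocalRing.comap_closedPoint (residue R))
    exact congrArg PrimeSpectrum.asIdeal h1
  have hrange : Set.range τ ⊆ Set.range (X.fromSpecStalk x) := by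
    rintro _ ⟨p, rfl⟩
    rw [show τ p = x from (congrArg τ (Subsingleton.elim p (closedPoint _))).trans hτx]
    exact ⟨_, Scheme.fromSpecStalk_closedPoint⟩
  obtain ⟨χ, hχ⟩ := Spec.map_surjective (IsOpenImmersion.lift (X.fromSpecStalk x) τ hrange)
  have hcomp : ψ ≫ χ = CommRingCat.ofHom (residue R) := by
    apply Spec.map_injective
    rw [Spec.map_comp, hψ, hχ, ← Category.assoc, IsOpenImmersion.lift_fac, hτ]
  have hχs : Function.Surjective χ.hom := fun c => by
    obtain ⟨a, rfl⟩ := residue_surjective c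
    exact ⟨ψ.hom a, congrArg (fun g : CommRingCat.of R ⟶ CommRingCat.of (ResidueField R) => g.hom a) hcomp⟩
  have hker : RingHom.ker χ.hom = (maximalIdeal R).map (algebraMap R L) := by
    rw [Algebra.FormallyUnramified.map_maximalIdeal]
    exact IsLocalRing.eq_maximalIdeal (RingHom.ker_isMaximal_of_surjective _ hχs)
  have hsur : Function.Surjective (algebraMap R L) := by
    have h1 : (⊤ : Submodule R L) ≤ LinearMap.range (Algebra.linearMap R L) := by
      refine Submodule.le_of_le_smul_of_le_jacobson_bot (I := maximalIdeal R) Module.Finite.fg_top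
        (maximalIdeal_le_jacobson _) fun b _ => ?_
      obtain ⟨a, ha⟩ := residue_surjective (χ.hom b)
      have h2 : b - algebraMap R L a ∈ (maximalIdeal R).map (algebraMap R L) := by
        rw [← hker, RingHom.mem_ker, map_sub, ← ha]
        exact sub_eq_zero.2 (congrArg (fun g : CommRingCat.of R ⟶ CommRingCat.of (ResidueField R) => g.hom a)
          hcomp).symm
      refine Submodule.mem_sup.2 ⟨algebraMap R L a, ⟨a, rfl⟩, b - algebraMap R L a, ?_, by abel⟩
      rwa [Ideal.smul_top_eq_map, Submodule.restrictScalars_mem]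
    exact fun b => h1 trivial
  haveI : Module.Free R L := Module.free_of_flat_of_isLocalRing
  have hinj : Function.Injective (algebraMap R L) := FaithfulSMul.algebraMap_injective R L
  haveI : IsIso ψ :=
    (RingEquiv.ofBijective ψ.hom ⟨hinj, hsur⟩).toCommRingCatIso.isIso_hom
  haveI hiso : IsIso (X.fromSpecStalk x ≫ f) := by rw [← hψ]; infer_instance
  suffices key : ∀ σ : Spec (CommRingCat.of R) ⟶ X, σ ≫ f = 𝟙 _ → σ (closedPoint R) = x →
      σ = inv (X.fromSpecStalk x ≫ f) ≫ X.fromSpecStalk x from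
    ⟨hiso, fun σ σ' hσ hσ' h h' => (key σ hσ h).trans (key σ' hσ' h').symm⟩
  intro σ hσ hσx
  have hr : Set.range σ ⊆ Set.range (X.fromSpecStalk x) := by
    rintro _ ⟨p, rfl⟩
    rw [Scheme.range_fromSpecStalk, ← hσx]
    exact (specializes_closedPoint (R := R) p).map σ.continuous
  have h1 : IsOpenImmersion.lift (X.fromSpecStalk x) σ hr = inv (X.fromSpecStalk x ≫ f) := by
    apply IsIso.eq_inv_of_inv_hom_id
    rw [← Category.assoc, IsOpenImmersion.lift_fac, hσ]
  rw [← h1, IsOpenImmersion.lift_fac]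

theorem structure_of_isTwConst (X : Over (Spec (CommRingCat.of R)))
    (hX : TwC.IsTwConst TwC.Topology.etale X) :
    (∀ x : X.left, X.hom.base x = IsLocalRing.closedPoint R →
      IsOpenImmersion (X.left.fromSpecStalk x) ∧ IsClosedImmersion (X.left.fromSpecStalk x) ∧
        IsFinite (X.left.fromSpecStalk x ≫ X.hom) ∧ Etale (X.left.fromSpecStalk x ≫ X.hom) ∧
        Surjective (X.left.fromSpecStalk x ≫ X.hom)) ∧
    (∀ y : X.left, ∃! x : X.left, X.hom.base x = IsLocalRing.closedPoint R ∧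
      y ∈ Set.range (X.left.fromSpecStalk x).base) ∧
    (∀ σ₁ σ₂ : Spec (CommRingCat.of R) ⟶ X.left, σ₁ ≫ X.hom = 𝟙 _ → σ₂ ≫ X.hom = 𝟙 _ →
      Spec.map (CommRingCat.ofHom (IsLocalRing.residue R)) ≫ σ₁ = Spec.map (CommRingCat.ofHom (IsLocalRing.residue R)) ≫ σ₂ → σ₁ = σ₂) ∧
    (∀ τ : Spec (CommRingCat.of (IsLocalRing.ResidueField R)) ⟶ X.left,
      τ ≫ X.hom = Spec.map (CommRingCat.ofHom (IsLocalRing.residue R)) →
      ∃ σ : Spec (CommRingCat.of R) ⟶ X.left, σ ≫ X.hom = 𝟙 _ ∧ Spec.map (CommRingCat.ofHom (IsLocalRing.residue R)) ≫ σ = τ) := by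
  haveI : IsSeparated X.hom := Groth.L16.TwSep.isSeparated hX
  haveI : Etale X.hom := Groth.L25.TwConst.etale_of_fppf (Groth.L25.TwConst.fppf_of_etale hX)
  have hpiece : ∀ x : X.left, X.hom x = closedPoint R →
      IsOpenImmersion (X.left.fromSpecStalk x) ∧ IsClosedImmersion (X.left.fromSpecStalk x) ∧
        IsFinite (X.left.fromSpecStalk x ≫ X.hom) ∧ Etale (X.left.fromSpecStalk x ≫ X.hom) ∧
        Surjective (X.left.fromSpecStalk x ≫ X.hom) := fun x hx => by
    obtain ⟨Z, hxZ, hZ⟩ := exists_finite_open hX x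
    exact localPiece hxZ hx
  have hpt : Spec.map (CommRingCat.ofHom (residue R)) (closedPoint (ResidueField R)) = closedPoint R :=
    IsLocalRing.comap_closedPoint (residue R)
  refine ⟨hpiece, exists_unique_closedPoint (exists_finite_open hX), fun σ₁ σ₂ h₁ h₂ h => ?_, fun τ hτ => ?_⟩
  · have hx₁ : (Spec.map (CommRingCat.ofHom (residue R)) ≫ σ₁) (closedPoint _) = σ₁ (closedPoint R) :=
      congrArg σ₁ hpt
    have hx : X.hom (σ₁ (closedPoint R)) = closedPoint R :=
      congrArg (fun g : Spec (CommRingCat.of R) ⟶ Spec (CommRingCat.of R) => g (closedPoint R)) h₁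
    obtain ⟨_, -, _, -, -⟩ := hpiece _ hx
    obtain ⟨_, huniq⟩ := isIso_of_point _ (Spec.map (CommRingCat.ofHom (residue R)) ≫ σ₁)
      (by rw [Category.assoc, h₁, Category.comp_id]) hx₁
    exact huniq σ₁ σ₂ h₁ h₂ rfl ((congrArg σ₂ hpt).symm.trans ((congrArg
      (fun g : Spec (CommRingCat.of (ResidueField R)) ⟶ X.left => g (closedPoint _)) h.symm).trans hx₁))
  · have hx : X.hom (τ (closedPoint _)) = closedPoint R :=
      (congrArg (fun g : Spec (CommRingCat.of (ResidueField R)) ⟶ Spec (CommRingCat.of R) => g (closedPoint _))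
        hτ).trans hpt
    obtain ⟨_, -, _, -, -⟩ := hpiece _ hx
    obtain ⟨_, -⟩ := isIso_of_point _ τ hτ rfl
    set x := τ (closedPoint (ResidueField R)) with hxdef
    refine ⟨inv (X.left.fromSpecStalk x ≫ X.hom) ≫ X.left.fromSpecStalk x,
      by rw [Category.assoc, IsIso.inv_hom_id], ?_⟩
    have hrange : Set.range τ ⊆ Set.range (X.left.fromSpecStalk x) := by
      rintro _ ⟨p, rfl⟩
      rw [show τ p = x from congrArg τ (Subsingleton.elim p (closedPoint _))]
      exact ⟨_, Scheme.fromSpecStalk_closedPoint⟩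
    have h1 : Spec.map (CommRingCat.ofHom (residue R)) ≫ inv (X.left.fromSpecStalk x ≫ X.hom) =
        IsOpenImmersion.lift (X.left.fromSpecStalk x) τ hrange := by
      rw [IsIso.comp_inv_eq, ← Category.assoc, IsOpenImmersion.lift_fac, hτ]
    rw [← Category.assoc, h1, IsOpenImmersion.lift_fac]

end Groth.L15.TwHens
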